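import Cfsg.Prelude.Def_KGroupFacts
import Cfsg.Agent.Lib.Lie.TitsMult.Index
import Cfsg.Agent.Lib.Lie.TitsMult.ThreeCheck
import Cfsg.Agent.Lib.Lie.TitsMult.FiveCheck
import Cfsg.Agent.Lib.Solv.SchurSmall

/-!
The Schur multiplier of the Tits group is trivial: for the primes 2, 3 and 5 the lifts of a Sylow subgroup meet
a kernel of that order trivially, by relations between lifts of conjugate elements.
-/

set_option autoImplicit false
set_option maxRecDepth 100000

noncomputable section

namespace Cfsg.Agent.Lie.TitsMult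

open Cfsg.Lie Cfsg.Agent.Lie F4Two
open Cfsg.Agent.Lie.CentralLocal (Setup)
open scoped MatrixGroups

attribute [local irreducible] F4Two.mulL wM gW

theorem coe_ev {gs : List Elem} {Γ : Type} [Group Γ] {σ : Γ →* TitsGroup} {x : ℕ → Γ}
    (hx : ∀ s, (σ (x s)).1 = gen gs s) : ∀ w : List ℕ, (σ (CentralLocal.ev x w)).1 = (w.map (gen gs)).prod
  | [] => by simp [CentralLocal.ev]
  | s :: w => by
    rw [CentralLocal.ev_cons, map_mul, Subgroup.coe_mul, hx, coe_ev hx w, List.map_cons, List.prod_cons]

/-- No stem extension of prime kernel order. -/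
theorem no_prime (C : CentralLocal.Cert) (gens : List Elem) (specs : List Spec) (ord : Janko.Tree ℕ)
    (combos : List (List (ℤ × ℕ) × List (ℤ × (ℕ × ℕ)))) (code : GT → ℕ)
    (hstep : ∀ g, ∀ s < C.k, code (g * gen gens s) = C.act s (code g)) (hone : code 1 = C.one)
    (hinj : ∀ a b, code a = code b → a = b) (hk : C.k = gens.length) (hv : C.Valid)
    (hord : ∀ k < C.N, C.ordCheck ord k = true)
    (hgens : (gens.all elemOK) = true ∧ (specs.all (specOK C gens)) = true)
    (hkill : ((List.range C.P).all fun p => C.killCheck (specs.map extOf) (combos.getD p ([], [])) p) = true)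
    (hq : C.q.Prime) (hidx : ¬ C.q ∣ 17971200 / C.N)
    {Γ : Type} [Group Γ] [Finite Γ] {σ : Γ →* TitsGroup} (hσ : Cfsg.IsStemExtension σ)
    (hcard : Nat.card σ.ker = C.q) : False := by
  obtain ⟨hg, hs⟩ := hgens
  rw [List.all_eq_true] at hs
  choose x hx using fun s => hσ.1 ⟨gen gens s, evL_comm _⟩
  have hx' : ∀ s, (σ (x s)).1 = gen gens s := fun s => congrArg Subtype.val (hx s)
  let S : Setup C Γ TitsGroup :=
    { σ := σ, central := hσ.2.1
      exponent := fun z => by rw [← hcard]; exact pow_card_eq_one'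
      code := fun g => code g.1, x := x
      code_step := fun g s hs' => by
        show code (g * σ (x s)).1 = _
        rw [Subgroup.coe_mul, hx']
        exact hstep _ s hs'
      code_one := hone
      code_inj := fun a b e => Subtype.ext (hinj _ _ e)
      valid := hv }
  have hlet : ∀ w, C.letters w = true → ∀ s ∈ w, s < gens.length := fun w hw s hs' => by
    have := List.all_eq_true.1 hw s hs'
    exact hk ▸ Nat.blt_eq.mp this
  have hconj : ∀ h a c : List ℕ, C.letters a = true → C.letters c = true → conjOK gens (wM h) a c = true →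
      (⟨evL h, evL_comm h⟩ : TitsGroup) * S.σ (CentralLocal.ev S.x a) = S.σ (CentralLocal.ev S.x c) * ⟨evL h, evL_comm h⟩ := by
    intro h a c ha hc hok
    refine Subtype.ext ?_
    show evL h * (σ (CentralLocal.ev x a)).1 = (σ (CentralLocal.ev x c)).1 * evL h
    rw [coe_ev hx', coe_ev hx']
    have r1 := (rep_evL h).mul (rep_gW hg a (hlet a ha))
    have r2 := (rep_gW hg c (hlet c hc)).mul (rep_evL h)
    have e : F4Two.mulL (wM h) (gW gens a) = F4Two.mulL (gW gens c) (wM h) := beq_iff_eq.1 hok
    rw [e] at r1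
    exact Subtype.ext (by rw [Subgroup.coe_mul, Subgroup.coe_mul]; exact r1.eq r2)
  have hext : ∀ e ∈ specs.map extOf, S.ExtHolds e := by
    intro e he
    obtain ⟨⟨⟨n, a, b, c, d⟩, h⟩, hmem, rfl⟩ := List.mem_map.1 he
    have hsp := hs _ hmem
    simp only [specOK, Bool.and_eq_true, Bool.or_eq_true, Bool.not_eq_true', Nat.beq_eq] at hsp
    obtain ⟨hok, ⟨la, lb, lc, ld⟩, hac, hrest⟩ := hsp
    rcases Nat.eq_zero_or_pos n with rfl | hn
    · have hbd : conjOK gens (wM h) b d = true := by
        rcases hrest with h' | h'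
        · exact h'.2
        · exact absurd h'.1 (by decide)
      exact S.ext_comm hok _ (hσ.1 _) (hconj h a c la lc hac) (hconj h b d lb ld hbd)
    · have hn0 : Nat.beq n 0 = false := by rw [← Bool.not_eq_true, Nat.beq_eq]; omega
      have hq' : C.q ∣ n := by
        rcases hrest with h' | h'
        · omega
        · exact Nat.dvd_of_mod_eq_zero h'.2
      simp only [extOf, hn0, cond_false] at hok ⊢
      exact S.ext_pow hq' hok _ (hσ.1 _) (hconj h a c la lc hac)
  obtain ⟨hmeet, hN⟩ := S.ker_meet hord (S.vanish hext hkill)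
  have hr1 : Set.range (fun s : {s // s < C.k} => x s) = S.x '' {s | s < C.k} := by
    rw [Set.image_eq_range]; rfl
  have hr2 : Set.range (fun s : {s // s < C.k} => σ (x s)) = (fun s => S.σ (S.x s)) '' {s | s < C.k} := by
    rw [Set.image_eq_range]; rfl
  refine CentralLocal.no_kernel hσ hq hcard (fun s : {s // s < C.k} => x s) (by rw [hr1]; exact hmeet) ?_
  rw [hr2]
  have h := Subgroup.card_mul_index (Subgroup.closure ((fun s => S.σ (S.x s)) '' {s | s < C.k}))
  rw [hN, card_tits] at h
  rw [show (17971200 : ℕ) = C.N * _ from h.symm, Nat.mul_div_cancel_left _ hv.npos] at hidx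
  exact hidx

theorem multiplier : Cfsg.HasCyclicSchurMultiplier TitsGroup 1 := by
  haveI := finite_GT
  refine Solv.hasCyclicSchur_one_of fun Γ _ _ σ hσ k hk => ?_
  have hno : ∀ q, q.Prime → ∀ z : σ.ker, z ^ q = 1 → z = 1 := by
    intro q hq z hz
    by_cases h235 : q = 2 ∨ q = 3 ∨ q = 5
    · by_contra hne
      obtain ⟨Δ, _, _, τ, hτ, hcard⟩ := CentralLocal.exists_stem_of_prime hσ hq hz hne
      rcases h235 with rfl | rfl | rfl
      · exact no_prime twoCert twoGens twoSpecs twoOrd twoCombos codeV
          (fun g s hs => step_V two_gens.1 two_pos g (show s < twoGens.length from hs)) codeV_one codeV_inj rfl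
          two_valid two_ord two_gens two_kills hq (by decide +kernel) hτ hcard
      · exact no_prime threeCert threeGens threeSpecs threeOrd threeCombos codeA
          (fun g s hs => step_A three_gens.1 g (show s < threeGens.length from hs)) codeA_one codeA_inj rfl
          three_valid three_ord three_gens three_kills hq (by decide +kernel) hτ hcard
      · exact no_prime fiveCert fiveGens fiveSpecs fiveOrd fiveCombos codeA
          (fun g s hs => step_A five_gens.1 g (show s < fiveGens.length from hs)) codeA_one codeA_inj rfl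
          five_valid five_ord five_gens five_kills hq (by decide +kernel) hτ hcard
    refine CentralTable.ker_no_torsion hσ hq (fun h => ?_) z hz
    rw [card_tits, show (17971200 : ℕ) = 2 ^ 11 * 3 ^ 3 * 5 ^ 2 * 13 by norm_num] at h
    have hdvd : q ∣ 2 ^ 11 * 3 ^ 3 * 5 ^ 2 * 13 := (dvd_pow_self q two_ne_zero).trans h
    simp only [hq.dvd_mul] at hdvd
    have key : ∀ p : ℕ, p.Prime → q ∣ p → q = p := fun p hp e => (Nat.prime_dvd_prime_iff_eq hq hp).1 e
    rcases hdvd with ((e | e) | e) | e
    · exact h235 (Or.inl (key 2 Nat.prime_two (hq.dvd_of_dvd_pow e)))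
    · exact h235 (Or.inr (Or.inl (key 3 Nat.prime_three (hq.dvd_of_dvd_pow e))))
    · exact h235 (Or.inr (Or.inr (key 5 Nat.prime_five (hq.dvd_of_dvd_pow e))))
    · obtain rfl := key 13 (by norm_num) e
      norm_num at h
  by_contra hne
  have hne' : (⟨k, hk⟩ : σ.ker) ≠ 1 := fun e => hne (congrArg Subtype.val e)
  have hpos : orderOf (⟨k, hk⟩ : σ.ker) ≠ 1 := fun e => hne' (orderOf_eq_one_iff.1 e)
  obtain ⟨q, hq, hd⟩ := Nat.exists_prime_and_dvd hpos
  have hord : orderOf ((⟨k, hk⟩ : σ.ker) ^ (orderOf (⟨k, hk⟩ : σ.ker) / q)) = q :=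
    orderOf_pow_orderOf_div (orderOf_pos _).ne' hd
  have h1 := hno q hq _ (hord ▸ pow_orderOf_eq_one _)
  rw [h1, orderOf_one] at hord
  exact hq.one_lt.ne hord

end Cfsg.Agent.Lie.TitsMult
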